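import Cfsg.Agent.H670.OneZ.Row
import Cfsg.Agent.H846.OZ.Odd

/-!
# The row `PSL_n(q)`, `n ≥ 2`, of S4842, modulo `PSL_6(2)` and `PSL_7(2)` (helper670)
-/

set_option autoImplicit false

namespace Cfsg.Agent.H670.OneZ

open Cfsg Cfsg.Agent.H730.OZ

universe u

/-- **The family `IsPSL`**, modulo `PSL_6(2)` and `PSL_7(2)`. -/
theorem row_isPSL {S : Type u} [Group S] [Finite S] (hs : IsSimpleGroup S) (h : Cfsg.IsPSL S)
    (h6 : ∀ (F : Type) [Field F] [Fintype F], Fintype.card F = 2 → Row (Matrix.ProjectiveSpecialLinearGroup (Fin 6) F))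
    (h7 : ∀ (F : Type) [Field F] [Fintype F], Fintype.card F = 2 → Row (Matrix.ProjectiveSpecialLinearGroup (Fin 7) F)) :
    Row S := by
  obtain ⟨F, iF, iT, n, hn, hn2, ⟨e⟩⟩ := h
  have : Fact (Nat.Prime 7) := ⟨by norm_num⟩
  rcases Nat.lt_or_ge n 3 with h3 | h3
  · obtain rfl : n = 2 := by omega
    exact Cfsg.Agent.H846.OZ.row_psl2 (hn2 rfl) e
  · exact row_psl hs h3 e (fun _ _ => Cfsg.Agent.H846.OZ.row_psl2 (by rw [ZMod.card]; norm_num) (MulEquiv.refl _))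
      (fun _ hF => h6 F hF) (fun _ hF => h7 F hF)

end Cfsg.Agent.H670.OneZ
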